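import Groth.Agent.MiscFlat6.FreeStalks
import Groth.Agent.CohCmpLib.FrameTools
import Groth.Agent.CohCmpLib.LineBundle
import Groth.Agent.QCohLib.Support
import Mathlib.RingTheory.Filtration

/-!
# Invertibility from infinitesimal information
-/

set_option autoImplicit false
set_option linter.style.haveILetI false

noncomputable section

universe u

open CategoryTheory CategoryTheory.Limits AlgebraicGeometry TopologicalSpace Opposite
open ProjFormLib (ger res ger_res ger_smul exists_ger IsFrame)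
open scoped TensorProduct

namespace PicAlgzLib

/-- A finite module over a Noetherian local ring which is free of rank one over quotients whose
kernels tend to zero is free of rank one. -/
theorem exists_bijective_smul {R N : Type u} [CommRing R] [IsNoetherianRing R] [IsLocalRing R]
    [AddCommGroup N] [Module R N] [Module.Finite R N] (I : Ideal R) (hI : I ≠ ⊤)
    (S : ℕ → Type u) [∀ n, CommRing (S n)] [∀ n, Algebra R (S n)]
    (hS : ∀ n, RingHom.ker (algebraMap R (S n)) ≤ I ^ (n + 1))
    (h0 : Function.Surjective (algebraMap R (S 0)))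
    (e : ∀ n, S n ⊗[R] N ≃ₗ[S n] S n) :
    ∃ v : N, Function.Bijective fun c : R => c • v := by
  obtain ⟨v, hv⟩ := TensorProduct.mk_surjective R N (S 0) h0 ((e 0).symm 1)
  replace hv : (1 : S 0) ⊗ₜ[R] v = (e 0).symm 1 := hv
  let K := RingHom.ker (algebraMap R (S 0))
  have hK : ∀ m : N, (1 : S 0) ⊗ₜ[R] m = 0 → m ∈ K • (⊤ : Submodule R N) := by
    intro m hm
    let α : (R ⧸ K) ≃ₐ[R] S 0 :=
      Ideal.quotientKerAlgEquivOfSurjective (f := Algebra.ofId R (S 0)) h0
    have h1 : (Ideal.Quotient.mk K 1) ⊗ₜ[R] m = 0 := by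
      apply (TensorProduct.congr α.toLinearEquiv (LinearEquiv.refl R N)).injective
      rw [TensorProduct.congr_tmul, map_zero]
      simpa using hm
    have h2 := congrArg (TensorProduct.quotTensorEquivQuotSMul N K) h1
    rw [map_zero, TensorProduct.quotTensorEquivQuotSMul_mk_tmul, one_smul] at h2
    exact (Submodule.Quotient.mk_eq_zero _).1 h2
  have hspan : (⊤ : Submodule R N) ≤ Submodule.span R {v} := by
    refine Submodule.le_of_le_smul_of_le_jacobson_bot (I := IsLocalRing.maximalIdeal R) Module.Finite.fg_top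
      (IsLocalRing.jacobson_eq_maximalIdeal ⊥ bot_ne_top).ge fun m _ => ?_
    obtain ⟨c, hc⟩ := h0 (e 0 ((1 : S 0) ⊗ₜ[R] m))
    have h1 : (1 : S 0) ⊗ₜ[R] (m - c • v) = 0 := by
      apply (e 0).injective
      rw [TensorProduct.tmul_sub, map_sub, map_zero, TensorProduct.tmul_smul, ← algebraMap_smul (S 0), map_smul,
        hv, LinearEquiv.apply_symm_apply, smul_eq_mul, mul_one, hc, sub_self]
    have hle : K ≤ IsLocalRing.maximalIdeal R :=
      (hS 0).trans ((pow_one I).le.trans (IsLocalRing.le_maximalIdeal hI))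
    refine Submodule.mem_sup.2 ⟨c • v, Submodule.smul_mem _ _ (Submodule.mem_span_singleton_self v), m - c • v,
      Submodule.smul_mono hle le_rfl (hK _ h1), ?_⟩
    abel
  refine ⟨v, ?_, fun m => Submodule.mem_span_singleton.1 (hspan (Submodule.mem_top (x := m)))⟩
  intro a b hab
  rw [← sub_eq_zero]
  set c := a - b
  have hcv : c • v = 0 := by
    simp only [c, sub_smul]
    exact sub_eq_zero.2 hab
  have hN : ∀ m : N, c • m = 0 := fun m => by
    obtain ⟨d, rfl⟩ := Submodule.mem_span_singleton.1 (hspan (Submodule.mem_top (x := m)))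
    rw [smul_comm, hcv, smul_zero]
  have hmem : ∀ n, c ∈ I ^ (n + 1) := fun n => hS n (by
    rw [RingHom.mem_ker]
    have h1 : ∀ t : S n ⊗[R] N, c • t = 0 := fun t => by
      induction t using TensorProduct.induction_on with
      | zero => rw [smul_zero]
      | tmul s m => rw [← TensorProduct.tmul_smul, hN, TensorProduct.tmul_zero]
      | add t t' ht ht' => rw [smul_add, ht, ht', add_zero]
    have h2 := congrArg (e n) (h1 ((e n).symm 1))
    rwa [← algebraMap_smul (S n), map_smul, LinearEquiv.apply_symm_apply, smul_eq_mul, mul_one, map_zero] at h2)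
  have : c ∈ ⨅ n : ℕ, I ^ n := Ideal.mem_iInf.2 fun n => Ideal.pow_le_pow_right (Nat.le_succ n) (hmem n)
  rwa [Ideal.iInf_pow_eq_bot_of_isLocalRing I hI, Ideal.mem_bot] at this

variable {X : Scheme.{u}}

/-- A coherent module with a stalk free of rank one is free of rank one nearby. -/
theorem exists_frame_of_stalk [IsLocallyNoetherian X] {M : X.Modules} (hM : Coh.IsCoh M) (x : X)
    (φ : X.presheaf.stalk x ≃ₗ[X.presheaf.stalk x] (DerSch.stalkFunctor X x).obj M) :
    ∃ (W : X.Opens) (e : Fin 1 → Γ(M, W)), x ∈ W ∧ IsFrame M e := by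
  haveI : Coh.IsQCoh M := hM.1
  obtain ⟨U, n, e, hxU, hn, hsurj⟩ := MiscFlat6.exists_spanning_nhd hM.2 x
  haveI : Module.Free (X.presheaf.stalk x) ((DerSch.stalkFunctor X x).obj M) := Module.Free.of_equiv φ
  haveI : Module.Free (X.presheaf.stalk x) (M.presheaf.stalk x) :=
    (inferInstance : Module.Free (X.presheaf.stalk x) ((DerSch.stalkFunctor X x).obj M))
  obtain rfl : n = 1 := by
    refine hn.trans (MiscFlat6.finrank_fibre.trans ?_)
    exact φ.finrank_eq.symm.trans (Module.finrank_self _)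
  have hinj : ∀ c : X.presheaf.stalk x, c • ger M x hxU (e 0) = 0 → c = 0 := by
    have h := OrzechProperty.injective_of_surjective_endomorphism
      (φ.symm.toLinearMap.comp (LinearMap.toSpanSingleton (X.presheaf.stalk x) _ (ger M x hxU (e 0))))
      (φ.symm.surjective.comp fun m => by
        obtain ⟨a, ha⟩ := hsurj x hxU m
        exact ⟨a 0, by simpa [Fintype.linearCombination_apply] using ha⟩)
    intro c hc
    refine h (a₁ := c) (a₂ := 0) ?_
    show φ.symm (c • ger M x hxU (e 0)) = φ.symm ((0 : X.presheaf.stalk x) • ger M x hxU (e 0))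
    rw [hc, zero_smul]
  obtain ⟨V, hV, hxV, hVU⟩ := exists_isAffineOpen_mem_and_subset (x := x) (U := U) hxU
  haveI : IsNoetherianRing Γ(X, V) := IsLocallyNoetherian.component_noetherian ⟨V, hV⟩
  let e₀ : Γ(M, V) := res M hVU (e 0)
  let a : Ideal Γ(X, V) := LinearMap.ker (LinearMap.toSpanSingleton Γ(X, V) Γ(M, V) e₀)
  obtain ⟨s, hs⟩ := IsNoetherian.noetherian a
  have hzero : ∀ c ∈ s, X.presheaf.germ V x hxV c = 0 := fun c hc => by
    have hca : c • e₀ = 0 := hs.le (Submodule.subset_span hc)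
    refine hinj _ ?_
    rw [← ger_res M hVU x hxV (e 0), ← ger_smul M x hxV c e₀, hca]
    exact map_zero _
  have hz' : ∀ c ∈ s, ∃ T : X.Opens, x ∈ T ∧ ∃ hT : T ≤ V, X.presheaf.map (homOfLE hT).op c = 0 := fun c hc => by
    obtain ⟨T, hxT, i₁, i₂, h⟩ := X.presheaf.germ_eq x hxV hxV c 0 ((hzero c hc).trans (map_zero _).symm)
    exact ⟨T, hxT, i₁.le, h.trans (map_zero _)⟩
  choose! T hxT hTV hT using hz'
  let W : X.Opens := V ⊓ s.inf T
  have hxW : x ∈ W :=
    ⟨hxV, Finset.inf_induction (p := fun O : X.Opens => x ∈ O) trivial (fun _ h₁ _ h₂ => ⟨h₁, h₂⟩) fun c hc => hxT c hc⟩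
  have hWV : W ≤ V := inf_le_left
  refine ⟨W, fun i => res M (hWV.trans hVU) (e i), hxW, fun y hy => ?_⟩
  have hsy := hsurj y (hVU (hWV hy))
  refine ⟨?_, by simpa only [ger_res] using hsy⟩
  rw [injective_iff_map_eq_zero]
  intro c hc
  rw [Fintype.linearCombination_apply, Fin.sum_univ_one, ger_res] at hc
  funext i
  obtain rfl : i = 0 := Subsingleton.elim _ _
  show c 0 = 0
  have hyV : y ∈ V := hWV hy
  letI := X.presheaf.algebra_section_stalk (⟨y, hyV⟩ : V)
  haveI := hV.isLocalization_stalk (⟨y, hyV⟩ : V)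
  obtain ⟨⟨b, t⟩, hbt⟩ := IsLocalization.surj (hV.primeIdealOf ⟨y, hyV⟩).asIdeal.primeCompl (c 0)
  have hu : IsUnit (X.presheaf.germ V y hyV (t : Γ(X, V))) :=
    IsLocalization.map_units (X.presheaf.stalk y) t
  have hb0 : ger M y hyV (b • e₀) = 0 := by
    rw [ger_smul, show X.presheaf.germ V y hyV b = c 0 * X.presheaf.germ V y hyV (t : Γ(X, V)) from hbt.symm,
      mul_comm, mul_smul, ger_res, hc, smul_zero]
  obtain ⟨T', hyT', i₁, i₂, h0⟩ := M.presheaf.germ_eq y hyV hyV (b • e₀) 0
    (hb0.trans (map_zero (M.presheaf.germ V y hyV).hom).symm)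
  obtain ⟨g, hgT, hyg⟩ := hV.exists_basicOpen_le ⟨y, hyT'⟩ hyV
  have h1 : M.presheaf.map (homOfLE (X.basicOpen_le g)).op (b • e₀) = 0 := by
    have h2 := congrArg (M.presheaf.map (homOfLE hgT).op) (h0.trans (map_zero (M.presheaf.map i₂.op).hom))
    rw [map_zero] at h2
    refine Eq.trans ?_ h2
    exact (QCohLib.map_map' M (homOfLE hgT) i₁ (b • e₀)).symm
  obtain ⟨m, hm⟩ := (QCohLib.localizingAt_of_isQCoh hV M g).eq_zero (b • e₀) h1
  have hm' : g ^ m * b ∈ a := by
    show (g ^ m * b) • e₀ = 0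
    rw [mul_smul]
    simpa using hm
  have hgz : X.presheaf.germ V y hyV (g ^ m * b) = 0 := by
    rw [← hs] at hm'
    refine (Submodule.span_le (p := RingHom.ker (X.presheaf.germ V y hyV).hom)).2 (fun r hr => ?_) hm'
    have hyT : y ∈ T r := (Finset.inf_le hr : s.inf T ≤ T r) hy.2
    show X.presheaf.germ V y hyV r = 0
    rw [← X.presheaf.germ_res_apply (homOfLE (hTV r hr)) y hyT r, hT r hr, map_zero]
  rw [map_mul, map_pow] at hgz
  have hug : IsUnit (X.presheaf.germ V y hyV g) := (X.mem_basicOpen g y hyV).1 hyg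
  have hb : X.presheaf.germ V y hyV b = 0 := (hug.pow m).mul_right_eq_zero.1 hgz
  exact hu.mul_left_eq_zero.1 (hbt.trans hb)

/-- A module with rank one frames everywhere is invertible. -/
theorem isInvertible_of_frames {M : X.Modules}
    (h : ∀ x : X, ∃ (W : X.Opens) (e : Fin 1 → Γ(M, W)), x ∈ W ∧ IsFrame M e) : PicF.IsInvertible M := by
  rw [CohCmpLib.invertible_iff_rank_one]
  intro x
  obtain ⟨W, e, hx, he⟩ := h x
  obtain ⟨φ⟩ := CohCmpLib.exists_iso_freeMod_of_frame
    (CohCmpLib.isFrame_puSecLE W.ι he (V := (⊤ : (W : Scheme.{u}).Opens)) (fun z _ => z.2))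
  exact ⟨W, hx, ⟨(Scheme.Modules.restrictFunctorIsoPullback W.ι).app M ≪≫ φ⟩⟩

end PicAlgzLib

end
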