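import Groth.Agent.GrSysLib.Thick
import Groth.Agent.GrSysLib.Step
import Groth.Agent.FComplLib.Modules
import Groth.Agent.CycKSuppLib.Killed
import Groth.Agent.CurvLib.StalkSum
import Groth.Agent.CurvLib.Line
import Groth.Agent.PicAlgzLib.Invert
import Groth.Agent.DepthLib.RegAB
import Groth.Prelude.Def_Formal

/-!
# Line bundles on the thickenings of a scheme over an adic ring
-/

set_option autoImplicit false
set_option linter.style.haveILetI false

noncomputable section

universe u

open CategoryTheory CategoryTheory.Limits AlgebraicGeometry TopologicalSpace Opposite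
open FormalLib (rhoA)
open scoped TensorProduct

namespace PicAlgzLib

variable {A : Type u} [CommRing A] {X Z : Scheme.{u}} [X.Over (Spec (CommRingCat.of A))]
  [Z.Over (Spec (CommRingCat.of A))] (ι : Z ⟶ X) [IsClosedImmersion ι]
  (hw : ι ≫ (X ↘ Spec (CommRingCat.of A)) = Z ↘ Spec (CommRingCat.of A))
  (J : Ideal A) (hzero : ∀ b ∈ J, Coh.toGlobal (Z ↘ Spec (CommRingCat.of A)) b = 0)
  (hker : ∀ W : X.affineOpens, ι.ker.ideal W ≤ J.map (rhoA A W.1))

include hw hzero hker in
/-- Restriction followed by an isomorphism identifies the quotient by the ideal. -/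
theorem isIso_desc (F : X.Modules) [Coh.IsQCoh F] {L : Z.Modules}
    (e : (Scheme.Modules.pullback ι).obj F ≅ L) :
    ∃ h : Formal.smulFamily J F ≫ ((Scheme.Modules.pullbackPushforwardAdjunction ι).unit.app F ≫
        (Scheme.Modules.pushforward ι).map e.hom) = 0, IsIso (cokernel.desc _ _ h) := by
  have h0 := GrSysLib.smulFamily_unit ι hw J hzero F
  refine ⟨by rw [← Category.assoc, h0, zero_comp], ?_⟩
  have := GrSysLib.isIso_desc_unit ι hw J hzero hker F
  have e' : ∀ h, cokernel.desc (Formal.smulFamily J F)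
      ((Scheme.Modules.pullbackPushforwardAdjunction ι).unit.app F ≫ (Scheme.Modules.pushforward ι).map e.hom) h =
        cokernel.desc _ _ h0 ≫ (Scheme.Modules.pushforward ι).map e.hom := fun h => by
    refine (cancel_epi (cokernel.π (Formal.smulFamily J F))).1 ?_
    rw [cokernel.π_desc, cokernel.π_desc_assoc]
  rw [e']
  exact IsIso.comp_isIso' this inferInstance

include hw hzero in
/-- Direct images from the thickening are killed by the ideal. -/
theorem killedBy_push (L : Z.Modules) : Formal.KilledBy J ((Scheme.Modules.pushforward ι).obj L) := fun a ha => by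
  rw [← GrSysLib.push_smulMod ι hw, GrSysLib.smulMod_eq_zero J hzero L ha, Functor.map_zero]

include hw hzero hker in
/-- The infinitesimal data at a point of the closed fibre. -/
theorem exists_stalk_data {M : X.Modules} {L : Z.Modules} (hL : PicF.IsInvertible L)
    (e : (Scheme.Modules.pullback ι).obj M ≅ L) (x : X) (z : Z) (hz : ι z = x) :
    ∃ (S : Type u) (_ : CommRing S) (_ : Algebra (X.presheaf.stalk x) S),
      Nontrivial S ∧ Function.Surjective (algebraMap (X.presheaf.stalk x) S) ∧
        RingHom.ker (algebraMap (X.presheaf.stalk x) S) =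
          J.map ((X.presheaf.germ ⊤ x trivial).hom.comp (Coh.toGlobal (X ↘ Spec (CommRingCat.of A)))) ∧
        Nonempty (S ⊗[X.presheaf.stalk x] ((DerSch.stalkFunctor X x).obj M) ≃ₗ[S] S) := by
  subst hz
  let R := X.presheaf.stalk (ι z)
  let S := Z.presheaf.stalk z
  letI : Algebra R S := (ι.stalkMap z).hom.toAlgebra
  obtain ⟨U, hU, hzU⟩ := QCohLib.exists_affine_nhd (ι z)
  have hg : (X.presheaf.germ U (ι z) hzU).hom.comp (rhoA A U) =
      (X.presheaf.germ ⊤ (ι z) trivial).hom.comp (Coh.toGlobal (X ↘ Spec (CommRingCat.of A))) :=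
    RingHom.ext fun a => X.presheaf.germ_res_apply (homOfLE (le_top : U ≤ ⊤)) (ι z) hzU _
  refine ⟨S, inferInstance, (ι.stalkMap z).hom.toAlgebra, inferInstance, ι.stalkMap_surjective z,
    le_antisymm ?_ ?_, ?_⟩
  · show RingHom.ker (ι.stalkMap z).hom ≤ _
    rw [FComplLib.ker_stalkMap ι z ⟨U, hU⟩ hzU, ← hg, ← Ideal.map_map]
    exact Ideal.map_mono (hker ⟨U, hU⟩)
  · rw [Ideal.map_le_iff_le_comap]
    intro a ha
    rw [Ideal.mem_comap, ← hg]
    show ι.stalkMap z (X.presheaf.germ U (ι z) hzU (rhoA A U a)) = 0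
    rw [Scheme.Hom.germ_stalkMap_apply, GrSysLib.app_rhoA ι hw]
    have : rhoA A (ι ⁻¹ᵁ U) a = 0 := by
      show Z.presheaf.map (homOfLE (le_top : ι ⁻¹ᵁ U ≤ ⊤)).op (Coh.toGlobal _ a) = 0
      rw [hzero a ha]
      exact map_zero _
    rw [this, map_zero]
  · obtain ⟨l⟩ := CurvLib.nonempty_stalk_pi_of_locFree ((CohCmpLib.invertible_iff_rank_one L).1 hL) z
    exact ⟨((KFlatLib.stalkPullIso ι z).app M).symm.toLinearEquiv ≪≫ₗ
      ((DerSch.stalkFunctor Z z).mapIso e).toLinearEquiv ≪≫ₗ l ≪≫ₗ LinearEquiv.funUnique (Fin 1) S S⟩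

end PicAlgzLib

namespace PicAlgzLib

section Base

variable {A : Type u} [CommRing A] (J : Ideal A) {X : Scheme.{u}} (f : X ⟶ Spec (CommRingCat.of A)) [IsProper f]

/-- The thickenings of the fibre over `V(J)`. -/
def thickOf : GrSysLib.Thick A J where
  X n := pullback f (CohB1.specQuot J n)
  p n := pullback.snd f (CohB1.specQuot J n)
  i n := CohB1.thickTrans f J n
  cart n := by
    refine IsPullback.of_right ?_ ?_ (IsPullback.of_hasPullback f (CohB1.specQuot J (n + 1)))
    · have e : CohB1.thickTrans f J n ≫ pullback.fst f (CohB1.specQuot J (n + 1)) =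
          pullback.fst f (CohB1.specQuot J n) := (pullback.lift_fst _ _ _).trans (Category.comp_id _)
      have key : ∀ a b, a = pullback.fst f (CohB1.specQuot J n) → b = CohB1.specQuot J n →
          IsPullback a (pullback.snd f (CohB1.specQuot J n)) f b := by
        rintro _ _ rfl rfl
        exact IsPullback.of_hasPullback f (CohB1.specQuot J n)
      exact key _ _ e (CohB1.specQuotTrans_specQuot J n)
    · exact pullback.lift_snd _ _ _
  proper := MorphismProperty.pullback_snd _ _ inferInstance

/-- The inclusion of a thickening. -/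
abbrev incl (n : ℕ) : (thickOf J f).X n ⟶ X := pullback.fst f (CohB1.specQuot J n)

theorem i_incl (n : ℕ) : (thickOf J f).i n ≫ incl J f (n + 1) = incl J f n := by
  exact (pullback.lift_fst _ _ _).trans (Category.comp_id _)

theorem incl_over (n : ℕ) :
    letI : X.Over (Spec (CommRingCat.of A)) := ⟨f⟩
    incl J f n ≫ (X ↘ Spec (CommRingCat.of A)) = (thickOf J f).X n ↘ Spec (CommRingCat.of A) :=
  (pullback.condition : pullback.fst f (CohB1.specQuot J n) ≫ f = _)

instance isClosedImmersion_incl (n : ℕ) : IsClosedImmersion (incl J f n) := by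
  have : IsClosedImmersion (CohB1.specQuot J n) := IsClosedImmersion.spec_of_surjective _ Ideal.Quotient.mk_surjective
  exact MorphismProperty.pullback_fst _ _ inferInstance

theorem ker_incl_le (n : ℕ) (W : X.affineOpens) :
    letI : X.Over (Spec (CommRingCat.of A)) := ⟨f⟩
    (incl J f n).ker.ideal W ≤ (J ^ (n + 1)).map (rhoA A W.1) := by
  letI : X.Over (Spec (CommRingCat.of A)) := ⟨f⟩
  have : IsClosedImmersion (CohB1.specQuot J n) := IsClosedImmersion.spec_of_surjective _ Ideal.Quotient.mk_surjective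
  obtain ⟨-, hk, -⟩ := FComplLib.chart (IsPullback.of_hasPullback f (CohB1.specQuot J n))
    ⟨⊤, isAffineOpen_top _⟩ W le_top
  rw [Scheme.Hom.ker_apply]
  refine hk.le.trans ?_
  rw [Ideal.map_le_iff_le_comap]
  intro x hx
  rw [Scheme.Hom.ker_apply, RingHom.mem_ker] at hx
  obtain ⟨b, rfl⟩ := (ConcreteCategory.bijective_of_isIso (Scheme.ΓSpecIso (CommRingCat.of A)).inv).2 x
  have hn := ConcreteCategory.congr_hom (Scheme.ΓSpecIso_inv_naturality
    (CommRingCat.ofHom (Ideal.Quotient.mk (J ^ (n + 1))))) b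
  have h0 : Ideal.Quotient.mk (J ^ (n + 1)) b = 0 := by
    refine (ConcreteCategory.bijective_of_isIso (Scheme.ΓSpecIso (CommRingCat.of (A ⧸ J ^ (n + 1)))).inv).1 ?_
    exact (hn.trans hx).trans (map_zero _).symm
  rw [Ideal.mem_comap]
  refine Eq.mpr ?_ (Ideal.mem_map_of_mem (rhoA A W.1) (Ideal.Quotient.eq_zero_iff_mem.1 h0))
  refine congrArg (fun v => v ∈ _) ?_
  rfl

/-- Points over `V(J)` lie in every thickening. -/
theorem mem_range_incl (n : ℕ) (x : X) (hx : J ≤ (f x).asIdeal) : x ∈ Set.range (incl J f n) := by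
  show x ∈ Set.range (pullback.fst f (CohB1.specQuot J n))
  rw [Scheme.Pullback.range_fst]
  show f x ∈ Set.range (Spec.map (CommRingCat.ofHom (Ideal.Quotient.mk (J ^ (n + 1)))))
  refine (range_comap_of_surjective _ _ (Ideal.Quotient.mk_surjective (I := J ^ (n + 1)))).ge ?_
  rw [PrimeSpectrum.mem_zeroLocus, SetLike.coe_subset_coe, Ideal.mk_ker]
  exact (Ideal.pow_le_self (Nat.succ_ne_zero n)).trans hx

variable (L : ∀ n, ((thickOf J f).X n).Modules)
  (ψ : ∀ n, (Scheme.Modules.pullback ((thickOf J f).i n)).obj (L (n + 1)) ≅ L n)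

/-- Restriction of the direct image of a level to the level below. -/
def resIso (n : ℕ) :
    (Scheme.Modules.pullback (incl J f n)).obj ((Scheme.Modules.pushforward (incl J f (n + 1))).obj (L (n + 1))) ≅ L n :=
  haveI := CycKSuppLib.isIso_counit (incl J f (n + 1)) (L (n + 1))
  (Scheme.Modules.pullbackCongr (i_incl J f n).symm).app _ ≪≫
    ((Scheme.Modules.pullbackComp ((thickOf J f).i n) (incl J f (n + 1))).app _).symm ≪≫
    (Scheme.Modules.pullback ((thickOf J f).i n)).mapIso
      (asIso ((Scheme.Modules.pullbackPushforwardAdjunction (incl J f (n + 1))).counit.app (L (n + 1)))) ≪≫ ψ n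

/-- The transition maps of the system on `X`. -/
def trT (n : ℕ) : (Scheme.Modules.pushforward (incl J f (n + 1))).obj (L (n + 1)) ⟶
    (Scheme.Modules.pushforward (incl J f n)).obj (L n) :=
  (Scheme.Modules.pullbackPushforwardAdjunction (incl J f n)).unit.app _ ≫
    (Scheme.Modules.pushforward (incl J f n)).map (resIso J f L ψ n).hom

/-- The system on `X`. -/
def sys : ℕᵒᵖ ⥤ X.Modules :=
  Functor.ofOpSequence (X := fun n => (Scheme.Modules.pushforward (incl J f n)).obj (L n)) (trT J f L ψ)

variable [IsNoetherianRing A] (hL : ∀ n, PicF.IsInvertible (L n))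

include hL in
theorem isCohFormal_sys :
    letI : X.Over (Spec (CommRingCat.of A)) := ⟨f⟩
    Formal.IsCohFormal J (sys J f L ψ) := by
  letI : X.Over (Spec (CommRingCat.of A)) := ⟨f⟩
  have : IsLocallyNoetherian X := LocallyOfFiniteType.isLocallyNoetherian f
  have hc : ∀ n, Coh.IsCoh ((Scheme.Modules.pushforward (incl J f n)).obj (L n)) := fun n =>
    QCohLib.isCoh_push_finite (incl J f n) _ (CurvLib.isCoh_of_isInvertible (hL n))
  have hz := fun n => fun b (hb : b ∈ J ^ (n + 1)) => GrSysLib.toGlobal_eq_zero (thickOf J f) n hb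
  refine ⟨hc, fun n => killedBy_push (incl J f n) (incl_over J f n) _ (hz n) (L n), fun n => ?_⟩
  haveI := (hc (n + 1)).1
  obtain ⟨h, hi⟩ := isIso_desc (incl J f n) (incl_over J f n) _ (hz n) (ker_incl_le J f n)
    ((Scheme.Modules.pushforward (incl J f (n + 1))).obj (L (n + 1))) (resIso J f L ψ n)
  have e : (sys J f L ψ).map (homOfLE (Nat.le_succ n)).op = trT J f L ψ n :=
    Functor.ofOpSequence_map_homOfLE_succ _ n
  rw [e]
  exact ⟨h, hi⟩

/-- A module whose completion is the system restricts to the given bundles. -/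
theorem nonempty_pullback_iso {M : X.Modules} [Coh.IsQCoh M]
    (φ : letI : X.Over (Spec (CommRingCat.of A)) := ⟨f⟩; Formal.completion J M ≅ sys J f L ψ) (n : ℕ) :
    Nonempty ((Scheme.Modules.pullback (incl J f n)).obj M ≅ L n) := by
  letI : X.Over (Spec (CommRingCat.of A)) := ⟨f⟩
  have hz := fun b (hb : b ∈ J ^ (n + 1)) => GrSysLib.toGlobal_eq_zero (thickOf J f) n hb
  have hi := GrSysLib.isIso_desc_unit (incl J f n) (incl_over J f n) _ hz (ker_incl_le J f n) M
  let δ : Formal.modPow J (n + 1) M ≅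
      (Scheme.Modules.pushforward (incl J f n)).obj ((Scheme.Modules.pullback (incl J f n)).obj M) :=
    @asIso _ _ _ _ _ hi
  let ρ : (Scheme.Modules.pushforward (incl J f n)).obj ((Scheme.Modules.pullback (incl J f n)).obj M) ≅
      (Scheme.Modules.pushforward (incl J f n)).obj (L n) := δ.symm ≪≫ φ.app (op n)
  haveI := CycKSuppLib.isIso_counit (incl J f n) ((Scheme.Modules.pullback (incl J f n)).obj M)
  haveI := CycKSuppLib.isIso_counit (incl J f n) (L n)
  let c := (Scheme.Modules.pullbackPushforwardAdjunction (incl J f n)).counit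
  exact ⟨(asIso (c.app ((Scheme.Modules.pullback (incl J f n)).obj M))).symm ≪≫
    (Scheme.Modules.pullback (incl J f n)).mapIso ρ ≪≫ asIso (c.app (L n))⟩

end Base

section Local

variable {A : Type u} [CommRing A] [IsNoetherianRing A] [IsLocalRing A] {X : Scheme.{u}}
  (f : X ⟶ Spec (CommRingCat.of A)) [IsProper f]

/-- A coherent module which is invertible on every thickening of the closed fibre is invertible. -/
theorem isInvertible_of_thickenings {M : X.Modules} (hM : Coh.IsCoh M)
    (L : ∀ n, ((thickOf (IsLocalRing.maximalIdeal A) f).X n).Modules) (hL : ∀ n, PicF.IsInvertible (L n))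
    (e : ∀ n, Nonempty ((Scheme.Modules.pullback (incl (IsLocalRing.maximalIdeal A) f n)).obj M ≅ L n)) :
    PicF.IsInvertible M := by
  letI : X.Over (Spec (CommRingCat.of A)) := ⟨f⟩
  set m := IsLocalRing.maximalIdeal A
  have : IsLocallyNoetherian X := LocallyOfFiniteType.isLocallyNoetherian f
  have : CompactSpace X := QuasiCompact.compactSpace_of_compactSpace f
  have main : ∀ x : X, m ≤ (f x).asIdeal →
      ∃ (W : X.Opens) (v : Fin 1 → Γ(M, W)), x ∈ W ∧ ProjFormLib.IsFrame M v := by
    intro x hx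
    let g := (X.presheaf.germ ⊤ x trivial).hom.comp (Coh.toGlobal (X ↘ Spec (CommRingCat.of A)))
    have hd : ∀ n, ∃ (S : Type u) (_ : CommRing S) (_ : Algebra (X.presheaf.stalk x) S),
        Nontrivial S ∧ Function.Surjective (algebraMap (X.presheaf.stalk x) S) ∧
          RingHom.ker (algebraMap (X.presheaf.stalk x) S) = (m ^ (n + 1)).map g ∧
          Nonempty (S ⊗[X.presheaf.stalk x] ((DerSch.stalkFunctor X x).obj M) ≃ₗ[S] S) := fun n => by
      obtain ⟨z, hz⟩ := mem_range_incl m f n x hx
      exact exists_stalk_data (incl m f n) (incl_over m f n) _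
        (fun b hb => GrSysLib.toGlobal_eq_zero (thickOf m f) n hb) (ker_incl_le m f n) (hL n) (e n).some x z hz
    choose S hS₁ hS₂ hnt hsurj hker hiso using hd
    haveI : Module.Finite (X.presheaf.stalk x) ((DerSch.stalkFunctor X x).obj M) := by
      haveI := hM.1
      exact DepthLib.finite_stalk M hM.2 x
    have hI : m.map g ≠ ⊤ := by
      have h := hker 0
      rw [zero_add, pow_one] at h
      rw [← h]
      haveI := hnt 0
      exact RingHom.ker_ne_top _
    obtain ⟨v, hv⟩ := exists_bijective_smul (N := (DerSch.stalkFunctor X x).obj M) (m.map g) hI S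
      (fun n => by rw [hker n, Ideal.map_pow]) (hsurj 0) fun n => (hiso n).some
    exact exists_frame_of_stalk hM x (LinearEquiv.ofBijective (LinearMap.toSpanSingleton _ _ v) hv)
  refine isInvertible_of_frames fun x => ?_
  let W : Set X := {y | ∃ (T : X.Opens) (v : Fin 1 → Γ(M, T)), y ∈ T ∧ ProjFormLib.IsFrame M v}
  suffices hW : W = Set.univ from (hW.ge (Set.mem_univ x) : _)
  have hWo : IsOpen W := isOpen_iff_forall_mem_open.2 fun y ⟨T, v, hy, hv⟩ =>
    ⟨T, fun y' hy' => ⟨T, v, hy', hv⟩, T.2, hy⟩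
  by_contra hne
  obtain ⟨y, hy, hyc⟩ := hWo.isClosed_compl.exists_closed_singleton (Set.nonempty_compl.2 hne)
  refine hy (main y ?_)
  have h1 : IsClosed ({f y} : Set (Spec (CommRingCat.of A))) := by
    rw [← Set.image_singleton]
    exact f.isClosedMap _ hyc
  haveI := (PrimeSpectrum.isClosed_singleton_iff_isMaximal (f y)).1 h1
  exact (IsLocalRing.eq_maximalIdeal this).ge

end Local

end PicAlgzLib

end
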